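import Groth.Agent.CycCovConn.Main

/-! # Existence of the connection and its residues -/

set_option autoImplicit false
set_option linter.style.haveILetI false
set_option backward.isDefEq.respectTransparency false

universe u

open CategoryTheory AlgebraicGeometry Opposite TopologicalSpace
open OmegaSh (idealSect)

noncomputable section

namespace Groth.Agent.CycCovConn

open Groth.Agent.QCoh Groth.Agent.Props.GenLocus Groth.Agent.Props.GenTensor Groth.Agent.CycCovEt Groth.Agent.CycCovRam Groth.Agent.CycCovDec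

variable {X S : Scheme.{u}} {f : X ⟶ S} {Ω' : X.Modules} {d : OmegaSh.Der f Ω'} [IsIntegral X] {L : X.Modules} {N : ℕ}
  {s : Coh.structureModule X ⟶ CohB1.tensorPow L N} {r : ℕ} {D : Fin r → X.IdealSheafData} {α : Fin r → ℕ} (i : Fin N)
  {M : X.Modules} (φ : CohB1.tensorMod M (CycCov.intPart L D α N i) ≅ Coh.structureModule X)
  (Λ : LogNCD.LogMod d (CycCov.poleDiv D α N i))

lemma wt_v {U : X.Opens} {v : Γ(X, U)} (hv : IsUnit v) :
    Wt Λ N i U v 1 (((i : ℕ) : Γ(X, U)) • (↑hv.unit⁻¹ : Γ(X, U)) • dd Λ U v) := by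
  unfold Wt
  rw [dd_one, smul_zero, sub_zero, smul_smul, smul_smul]
  congr 1
  rw [mul_one, mul_one, mul_comm v, mul_assoc, IsUnit.mul_val_inv, mul_one]

lemma wt_t {U : X.Opens} {t : Γ(X, U)} (w : Γ(Λ.L, U)) (a : ℕ) (hw : ¬ N ∣ (i : ℕ) * a → t • w = dd Λ U t) :
    Wt Λ N i U (t ^ a) (t ^ ((i : ℕ) * a / N)) (((((i : ℕ) * a % N : ℕ)) : Γ(X, U)) • w) := by
  by_cases h : N ∣ (i : ℕ) * a
  · rw [Nat.dvd_iff_mod_eq_zero.1 h, Nat.cast_zero, zero_smul]
    unfold Wt
    rw [smul_zero, sub_eq_zero]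
    obtain ⟨q, hq⟩ := h
    rw [hq, Nat.mul_div_cancel_left _ (Fin.pos i)]
    rcases q with _ | q
    · rcases mul_eq_zero.1 (hq.trans (mul_zero N)) with h0 | h0
      · rw [show (((i : ℕ)) : Γ(X, U)) = 0 by rw [h0, Nat.cast_zero], zero_mul, zero_smul, pow_zero, dd_one, smul_zero]
      · rw [h0, pow_zero, dd_one, smul_zero, smul_zero]
    · rcases a with _ | a
      · rw [mul_zero] at hq
        exact absurd hq.symm (Nat.mul_ne_zero (Fin.pos i).ne' q.succ_ne_zero)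
      · rw [dd_pow', dd_pow', smul_smul, smul_smul]
        congr 1
        have h2 := congrArg (fun n : ℕ => (n : Γ(X, U))) hq
        push_cast at h2 ⊢
        calc ((i : ℕ) : Γ(X, U)) * t ^ (q + 1) * (((a : Γ(X, U)) + 1) * t ^ a)
            = (((i : ℕ) : Γ(X, U)) * ((a : Γ(X, U)) + 1)) * (t ^ a * t ^ (q + 1)) := by ring
          _ = ((N : Γ(X, U)) * ((q : Γ(X, U)) + 1)) * (t ^ a * t ^ (q + 1)) := by rw [h2]
          _ = _ := by ring
  · have h1 := (hw h).symm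
    unfold Wt
    rw [dd_pow Λ t w h1, dd_pow Λ t w h1]
    have h2 := congrArg (fun n : ℕ => (n : Γ(X, U))) (Nat.div_add_mod ((i : ℕ) * a) N)
    push_cast at h2
    rw [smul_smul, smul_smul, smul_smul, ← sub_smul]
    congr 1
    linear_combination (-(t ^ a * t ^ ((i : ℕ) * a / N))) * h2

theorem exists_frame_of_good {V : X.affineOpens} [Nonempty V.1] (hNu : IsUnit (N : Γ(X, V.1))) (G : GoodX s D α V) :
    Nonempty (Frame i φ (Λ := Λ) (s := s) V) := by
  classical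
  have hI : (CycCov.floorIdeal D α N i).ideal V = Ideal.span {∏ j, G.t j ^ ((i : ℕ) * α j / N)} := G.hI _
  obtain ⟨σ, hσ, hσ'⟩ := CartDiv.Difference.exists_isGen_ideal _
    (mem_nonZeroDivisors_of_ne_zero (Finset.prod_ne_zero_iff.2 fun j _ => pow_ne_zero _ (G.ht j))) hI
  have hg : Props.GenLocus.IsGen (CycCov.intPart L D α N i) V.1 (tmul (pw L G.e (i : ℕ)) σ) :=
    isGen_tmul (isGen_pw G.he _) hσ
  have hb := (ConcreteCategory.bijective_of_isIso (φ.hom.app V.1)).comp (AmpleLib.tmul_gen_bijective hg M (le_refl V.1))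
  obtain ⟨m₀, hm₀⟩ := hb.2 (1 : Γ(X, V.1))
  simp only [Function.comp_apply, res_self] at hm₀
  let g : Fin r → Γ(X, V.1) := fun j => if N ∣ (i : ℕ) * α j then 1 else G.t j
  have hg' : ∀ j, (CycCov.poleDiv D α N i j).ideal V = Ideal.span {g j} := fun j => by
    by_cases h : N ∣ (i : ℕ) * α j
    · simp only [g, if_pos h, CycCov.poleDiv]; rw [Ideal.span_singleton_one]; rfl
    · simp only [g, if_neg h, CycCov.poleDiv]; exact G.hD j
  obtain ⟨-, dl0, hdl, -, hres, hres'⟩ := Λ.rule V g hg'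
  let dl : Fin r → Γ(Λ.L, V.1) := dl0
  let w : Γ(Λ.L, V.1) := ((i : ℕ) : Γ(X, V.1)) • (↑G.hv.unit⁻¹ : Γ(X, V.1)) • dd Λ V.1 G.v +
    ∑ j, ((((i : ℕ) * α j % N : ℕ)) : Γ(X, V.1)) • dl j
  have hNw : (N : Γ(X, V.1)) • ((↑hNu.unit⁻¹ : Γ(X, V.1)) • w) = w := by
    rw [smul_smul, IsUnit.mul_val_inv, one_smul]
  have hw : Wt Λ N i V.1 (G.v * ∏ j, G.t j ^ α j) (∏ j, G.t j ^ ((i : ℕ) * α j / N)) w := by
    have h1 : ∀ S : Finset (Fin r), Wt Λ N i V.1 (∏ j ∈ S, G.t j ^ α j) (∏ j ∈ S, G.t j ^ ((i : ℕ) * α j / N))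
        (∑ j ∈ S, ((((i : ℕ) * α j % N : ℕ)) : Γ(X, V.1)) • dl j) := fun S => by
      induction S using Finset.induction_on with
      | empty => simp [Wt, dd_one]
      | insert a S ha ih =>
        rw [Finset.prod_insert ha, Finset.prod_insert ha, Finset.sum_insert ha]
        refine Wt.mul Λ (wt_t i Λ _ _ fun h => ?_) ih
        have h2 := hdl a
        simp only [g, if_neg h] at h2
        exact h2
    have := Wt.mul Λ (wt_v i Λ G.hv) (h1 Finset.univ)
    rwa [one_mul] at this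
  refine ⟨⟨G, σ, hσ, hσ', m₀, hm₀, (↑hNu.unit⁻¹ : Γ(X, V.1)) • w, by rw [hNw, hσ']; exact hw, fun j => ?_⟩⟩
  rw [hNw]
  have hz : ∀ a, (Λ.res j).app V.1 (dd Λ V.1 a) = 0 := fun a =>
    congrArg (fun ψ : Ω' ⟶ ClSub.quotMod (CycCov.poleDiv D α N i j) => ψ.app V.1 (d.app V.1 a)) (Λ.res_ι j)
  simp only [w, map_add, map_sum, Scheme.Modules.Hom.app_smul, hz, smul_zero, zero_add]
  rw [Finset.sum_eq_single j]
  · exact congrArg _ (hres j)
  · intro l _ hl
    rw [show (Λ.res j).app V.1 (dl l) = 0 from hres' l j hl, smul_zero]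
  · simp

include φ in
/-- The connection and its residues. -/
theorem exists_conn [Smooth f] (hd : OmegaSh.IsUniversal d) (hfree : FlatMod.IsFinLocFree Ω')
    (hres : ∀ nabla, ConnSh.IsConn (LogNCD.der Λ) M nabla → ∀ j, ∃ ρ, LogNCD.IsResidue Λ M nabla j ρ)
    (hNu : ∀ U : X.Opens, IsUnit (N : Γ(X, U)))
    (hgood : ∀ (O : X.Opens), ∀ x ∈ O, ∃ V : X.affineOpens, x ∈ V.1 ∧ V.1 ≤ O ∧ Nonempty (GoodX s D α V)) :
    ∃ nabla : Coh.toAb M ⟶ Coh.toAb (CohB1.tensorMod M Λ.L),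
      ConnSh.IsConn (LogNCD.der Λ) M nabla ∧
      ∀ j : Fin r, ∃ ρ : M ⟶ CohB1.tensorMod M (ClSub.quotMod (CycCov.poleDiv D α N i j)),
        LogNCD.IsResidue Λ M nabla j ρ ∧
        N • ρ = CycCov.resNum α N i j • ((SecTwist.unitorR M).inv ≫
          KoszTw.tensorMap (𝟙 M) (ClSub.toSubscheme (CycCov.poleDiv D α N i j))) := by
  classical
  have hgF : ∀ (O : X.Opens), ∀ x ∈ O, ∃ V : X.affineOpens, x ∈ V.1 ∧ V.1 ≤ O ∧ Nonempty (Frame i φ (Λ := Λ) (s := s) V) :=
    fun O x hx => by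
      obtain ⟨V, hxV, hVO, ⟨G⟩⟩ := hgood O x hx
      haveI : Nonempty V.1 := ⟨⟨x, hxV⟩⟩
      exact ⟨V, hxV, hVO, exists_frame_of_good i φ Λ (hNu _) G⟩
  have hgiff : ∀ (V : X.affineOpens) [Nonempty V.1] (F : Frame i φ (Λ := Λ) (s := s) V) (m : Γ(M, V.1))
      (y : Γ(CohB1.tensorMod M Λ.L, V.1)), Rel Λ i φ s V.1 m y ↔ y = tmul F.m₀
      (dd Λ V.1 (pairF D α i φ (tmul (pw L F.e (i : ℕ)) F.σ) m) +
        pairF D α i φ (tmul (pw L F.e (i : ℕ)) F.σ) m • F.ω) := fun V _ F m y => by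
    have hg : ∀ (V : X.affineOpens) (G : GoodX s D α V), ∃ g : Fin r → Γ(X, V.1), ∀ j, (CycCov.poleDiv D α N i j).ideal V = Ideal.span {g j} :=
      fun V G => ⟨fun j => if N ∣ (i : ℕ) * α j then 1 else G.t j, fun j => by
        by_cases h : N ∣ (i : ℕ) * α j
        · simp only [if_pos h, CycCov.poleDiv]; rw [Ideal.span_singleton_one]; rfl
        · simp only [if_neg h, CycCov.poleDiv]; exact G.hD j⟩
    refine rel_iff hd hfree (fun W G g hg' j hj => ?_) hg (hNu _).ne_zero F m y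
    by_cases h : N ∣ (i : ℕ) * α j
    · have h1 := hg' j
      simp only [CycCov.poleDiv, if_pos h] at h1
      rw [hj, Ideal.span_singleton_eq_bot.2 rfl] at h1
      have h2 : (1 : Γ(X, W.1)) ∈ (⊥ : Ideal Γ(X, W.1)) := h1 ▸ trivial
      rw [Ideal.mem_bot] at h2
      exact G.ht j (by rw [← mul_one (G.t j), h2, mul_zero])
    · have h1 := hg' j
      simp only [CycCov.poleDiv, if_neg h] at h1
      rw [hj, Ideal.span_singleton_eq_bot.2 rfl, G.hD j, Ideal.span_singleton_eq_bot] at h1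
      exact G.ht j h1
  have huniq : ∀ (U : X.Opens) (m : Γ(M, U)) y y', Rel Λ i φ s U m y → Rel Λ i φ s U m y' → y = y' := by
    intro U m y y' hy hy'
    choose V hxV hVU G using fun x : U => hgF U x.1 x.2
    refine eq_of_locally_eq _ (U := fun x : U => (V x).1) hVU (fun z hz => Opens.mem_iSup.2 ⟨⟨z, hz⟩, hxV ⟨z, hz⟩⟩) y y' fun x => ?_
    haveI : Nonempty (V x).1 := ⟨⟨x.1, hxV x⟩⟩
    exact ((hgiff _ (G x).some _ _).1 (Rel.restrict i φ (hVU x) hy)).trans ((hgiff _ (G x).some _ _).1 (Rel.restrict i φ (hVU x) hy')).symm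
  have hex : ∀ (U : X.Opens) (m : Γ(M, U)), ∃ y, Rel Λ i φ s U m y := by
    intro U m
    choose V hxV hVU G using fun x : U => hgF U x.1 x.2
    have hloc : ∀ x : U, ∃ y, Rel Λ i φ s (V x).1 (res M (hVU x) m) y := fun x => by
      haveI : Nonempty (V x).1 := ⟨⟨x.1, hxV x⟩⟩
      exact ⟨_, (hgiff _ (G x).some _ _).2 rfl⟩
    choose y hy using hloc
    have hcov : U ≤ ⨆ x : U, (V x).1 := fun z hz => Opens.mem_iSup.2 ⟨⟨z, hz⟩, hxV ⟨z, hz⟩⟩
    obtain ⟨z, hz⟩ := exists_glue _ (U := fun x : U => (V x).1) hVU hcov y fun x x' =>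
      huniq _ (res M (inf_le_left.trans (hVU x)) m) _ _
        (by have h1 := Rel.restrict i φ (inf_le_left : (V x).1 ⊓ (V x').1 ≤ (V x).1) (hy x); rwa [res_res] at h1)
        (by have h1 := Rel.restrict i φ (inf_le_right : (V x).1 ⊓ (V x').1 ≤ (V x').1) (hy x'); rwa [res_res] at h1)
    refine ⟨z, fun W hW e he τ a ha m₁ => ?_⟩
    choose V' hxV' hV' G' using fun q : W.1 => hgF ((V ⟨q.1, hW q.2⟩).1 ⊓ W.1) q.1 ⟨hxV _, q.2⟩
    refine eq_of_locally_eq _ (U := fun q : W.1 => (V' q).1) (fun q => (hV' q).trans inf_le_right)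
      (fun q hq => Opens.mem_iSup.2 ⟨⟨q, hq⟩, hxV' ⟨q, hq⟩⟩) _ _ fun q => ?_
    have hle : (V' q).1 ≤ W.1 := (hV' q).trans inf_le_right
    have hle' : (V' q).1 ≤ (V ⟨q.1, hW q.2⟩).1 := (hV' q).trans inf_le_left
    have ha' : SecTwist.val s (V' q).1 = rres hle a • pw L (res L hle e) N := by
      rw [← res_pw, ← res_smul, ← ha]; exact (sec_res s hle).symm
    have h1 := hy ⟨q.1, hW q.2⟩ (V' q) hle' (res L hle e) (he.restrict hle) (res _ hle τ) (rres hle a) ha' (res M hle m₁)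
    erw [Omega.Stalks.idealSect_map] at h1
    rw [← hz] at h1
    simp only [res_res] at h1
    erw [res_smul, res_tmul]
    simp only [map_sub, map_add, res_smul, dd_res, map_mul, map_natCast, pairF_res, res_res]
    erw [res_tmul]
    simp only [res_pw]
    exact h1
  choose F hF using hex
  have hform : ∀ (U : X.Opens) (V : X.affineOpens) [Nonempty V.1] (G : Frame i φ (Λ := Λ) (s := s) V) (h : V.1 ≤ U) (m : Γ(M, U)),
      res _ h (F U m) = tmul G.m₀ (dd Λ V.1 (pairF D α i φ (tmul (pw L G.e (i : ℕ)) G.σ) (res M h m)) +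
        pairF D α i φ (tmul (pw L G.e (i : ℕ)) G.σ) (res M h m) • G.ω) :=
    fun U V _ G h m => (hgiff V G _ _).1 (Rel.restrict i φ h (hF U m))
  have hnat : ∀ {U V : X.Opens} (h : V ≤ U) (m : Γ(M, U)), F V (res M h m) = res _ h (F U m) :=
    fun h m => huniq _ _ _ _ (hF _ _) (Rel.restrict i φ h (hF _ m))
  have hlocal : ∀ {P : X.Modules} (U : X.Opens) (z z' : Γ(P, U)),
      (∀ (V : X.affineOpens) [Nonempty V.1] (_ : Frame i φ (Λ := Λ) (s := s) V) (h : V.1 ≤ U), res P h z = res P h z') → z = z' := by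
    intro P U z z' h
    choose V hxV hVU G using fun x : U => hgF U x.1 x.2
    exact eq_of_locally_eq P (U := fun x : U => (V x).1) hVU (fun w hw => Opens.mem_iSup.2 ⟨⟨w, hw⟩, hxV ⟨w, hw⟩⟩) z z'
      fun x => by haveI : Nonempty (V x).1 := ⟨⟨x.1, hxV x⟩⟩; exact h _ (G x).some _
  have htm : ∀ (U : X.Opens) (m : Γ(M, U)) (z z' : Γ(Λ.L, U)), tmul m (z + z') = tmul m z + tmul m z' := fun U m z z' => by
    rw [tmul, TensorProduct.tmul_add]; exact map_add _ _ _
  have hadd : ∀ U a b, F U (a + b) = F U a + F U b := fun U a b => hlocal U _ _ fun V _ G h => by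
    rw [map_add, hform U V G h, hform U V G h, hform U V G h, map_add, pairF_add, dd_add, add_smul, ← htm]
    congr 1
    abel
  have hleib : ∀ U (t : Γ(X, U)) (e : Γ(M, U)), F U (t • e) = t • F U e + tmul e (dd Λ U t) := fun U t e => hlocal U _ _ fun V _ G h => by
    rw [map_add, hform U V G h, res_smul, res_smul, hform U V G h, res_tmul, dd_res, pairF_smul_right, dd_mul,
      ← tmul_smul_right]
    have h1 := G.eq_smul le_rfl (res M h e)
    rw [res_self, res_self] at h1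
    conv_rhs => arg 2; rw [h1, tmul_smul_left, ← tmul_smul_right]
    rw [← htm]
    congr 1
    module
  let nabla : Coh.toAb M ⟶ Coh.toAb (CohB1.tensorMod M Λ.L) :=
    ⟨{ app := fun U => AddCommGrpCat.ofHom (AddMonoidHom.mk' (G := Γ(CohB1.tensorMod M Λ.L, U.unop)) (F U.unop) (hadd U.unop))
       naturality := fun {U V} g => by
        ext m
        exact hnat g.unop.le m }⟩
  have hconn : ConnSh.IsConn (LogNCD.der Λ) M nabla := fun U t e => hleib U t e
  refine ⟨nabla, hconn, fun j => ?_⟩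
  obtain ⟨ρ, hρ⟩ := hres nabla hconn j
  refine ⟨ρ, hρ, ?_⟩
  apply Scheme.Modules.hom_ext
  intro U
  ext m
  refine hlocal U _ _ fun V _ G h => ?_
  have hρ' : ∀ (W : X.Opens) (x : Γ(M, W)), ρ.app W x = (KoszTw.tensorMap (𝟙 M) (Λ.res j)).app W (F W x) := fun W x =>
    congrArg (fun ψ => ConnSh.secApp ψ W x) hρ
  have hsm : ∀ {A B : X.Modules} (ψ : A ⟶ B) (n : ℕ) (W : X.Opens) (x : Γ(A, W)), (n • ψ).app W x = (n : Γ(X, W)) • ψ.app W x := by
    intro A B ψ n W x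
    induction n with
    | zero => rw [zero_smul, Nat.cast_zero, zero_smul, Scheme.Modules.Hom.zero_app]; rfl
    | succ n ih => rw [succ_nsmul, Scheme.Modules.Hom.add_app, Nat.cast_succ, add_smul, one_smul, ← ih]; rfl
  rw [← app_res, ← app_res, hsm, hsm, hρ', ← res_self (CohB1.tensorMod M Λ.L) le_rfl (F V.1 _), hform V.1 V G le_rfl, res_self]
  erw [KoszTw.tensorMap_tmul]
  rw [map_add, show (Λ.res j).app V.1 (dd Λ V.1 _) = 0 from
    congrArg (fun ψ : Ω' ⟶ ClSub.quotMod (CycCov.poleDiv D α N i j) => ψ.app V.1 (d.app V.1 _)) (Λ.res_ι j),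
    zero_add, Scheme.Modules.Hom.app_smul]
  have h1 := G.eq_smul le_rfl (res M h m)
  rw [res_self, res_self] at h1
  conv_rhs => rw [h1]
  have hcan : ∀ x : Γ(M, V.1), ((SecTwist.unitorR M).inv ≫ KoszTw.tensorMap (𝟙 M) (ClSub.toSubscheme (CycCov.poleDiv D α N i j))).app V.1 x =
      tmul x (LogNCD.oneOn (CycCov.poleDiv D α N i j) V.1 : Γ(ClSub.quotMod (CycCov.poleDiv D α N i j), V.1)) := fun x => by
    rw [Scheme.Modules.Hom.comp_app, ConcreteCategory.comp_apply]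
    have h2 : (SecTwist.unitorR M).inv.app V.1 x = tmul (N := Coh.structureModule X) x (one' V.1) := by
      refine (ConcreteCategory.bijective_of_isIso ((SecTwist.unitorR M).hom.app V.1)).1 ?_
      rw [← ConcreteCategory.comp_apply, ← Scheme.Modules.Hom.comp_app, Iso.inv_hom_id]
      exact ((SecTwist.unitorR_tmul M V.1 x (1 : Γ(X, V.1))).trans (one_smul Γ(X, V.1) x)).symm
    rw [h2]
    exact KoszTw.tensorMap_tmul (𝟙 M) (ClSub.toSubscheme (CycCov.poleDiv D α N i j)) V.1 x _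
  rw [hcan, tmul_smul_left]
  erw [← tmul_smul_right, ← tmul_smul_right, ← tmul_smul_right]
  rw [Scheme.Modules.Hom.id_app]
  congr 1
  have h3 := G.hres j
  rw [Scheme.Modules.Hom.app_smul] at h3
  rw [smul_comm, h3, smul_comm]

end Groth.Agent.CycCovConn
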