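import Groth.Agent.ProjTwist.Tensor
import Groth.Agent.Props.GenTensor
import Groth.Agent.AmpleLib.Twist

/-! # Tensoring with a generator on the left -/

set_option autoImplicit false
set_option backward.isDefEq.respectTransparency false

universe u

open CategoryTheory AlgebraicGeometry Opposite MonoidalCategory

noncomputable section

namespace Groth.Agent.CycCovConn

open Groth.Agent.QCoh Groth.Agent.Props.GenLocus Groth.Agent.Props.GenTensor

variable {X : Scheme.{u}}

lemma comm_tmul {M N : X.Modules} {U : X.Opens} (m : Γ(M, U)) (n : Γ(N, U)) :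
    (ProjTwist.tensComm M N).hom.app U (tmul m n) = tmul n m := by
  let b := (β_ ((ModSite.toPre X.sheaf).obj M) ((ModSite.toPre X.sheaf).obj N)).hom
  have h := (PresheafOfModules.sheafificationAdjunction (𝟙 X.ringCatSheaf.obj)).unit.naturality b
  exact (congrArg (fun ψ => (ψ.app (op U)).hom (show (pre M N).obj (op U) from
    (m ⊗ₜ[Γ(X, U)] n : TensorProduct Γ(X, U) Γ(M, U) Γ(N, U)))) h).symm

theorem tmul_left_bijective {M : X.Modules} {U : X.Opens} {e : Γ(M, U)} (he : Props.GenLocus.IsGen M U e)
    (N : X.Modules) {V : X.Opens} (h : V ≤ U) :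
    Function.Bijective fun n : Γ(N, V) => tmul (res M h e) n := by
  have : (fun n : Γ(N, V) => tmul (res M h e) n) =
      (ProjTwist.tensComm N M).hom.app V ∘ fun n : Γ(N, V) => tmul n (res M h e) :=
    funext fun n => (comm_tmul n _).symm
  rw [this]
  exact (ConcreteCategory.bijective_of_isIso ((ProjTwist.tensComm N M).hom.app V)).comp
    (AmpleLib.tmul_gen_bijective he N h)

end Groth.Agent.CycCovConn
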