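import Groth.Agent.CycCovDec.Main
import Groth.Agent.QCoh.Exact
import Groth.Agent.CycCovConn.Tmul
import Groth.Agent.Omega.LocalStructure
import Groth.Agent.S5018
import Groth.Agent.DefoShLib.Conn
import Groth.Agent.ProjForm.Unit
import Groth.Agent.NegVan.Twist
import Groth.Agent.S17119
import Groth.Prelude.Def_LogNCD2

/-! # The logarithmic connection on the inverse of an integral part -/

set_option autoImplicit false
set_option linter.style.haveILetI false
set_option backward.isDefEq.respectTransparency false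

universe u

open CategoryTheory AlgebraicGeometry Opposite TopologicalSpace
open OmegaSh (idealSect)

noncomputable section

namespace Groth.Agent.CycCovConn

open Groth.Agent.QCoh Groth.Agent.Props.GenLocus Groth.Agent.Props.GenTensor Groth.Agent.CycCovEt Groth.Agent.CycCovRam Groth.Agent.CycCovDec

variable {X S : Scheme.{u}} {f : X ⟶ S} {Ω' : X.Modules} {d : OmegaSh.Der f Ω'} {r : ℕ}
  {D' : Fin r → X.IdealSheafData} (Λ : LogNCD.LogMod d D')

/-- `ι ∘ d` on sections. -/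
def dd (U : X.Opens) (a : Γ(X, U)) : Γ(Λ.L, U) := Λ.ι.app U (d.app U a)

lemma dd_mul {U : X.Opens} (a b : Γ(X, U)) : dd Λ U (a * b) = a • dd Λ U b + b • dd Λ U a := by
  have h : d.app U (a * b) = a • d.app U b + b • d.app U a := d.d_mul (X := op U) a b
  rw [dd, dd, dd, h, map_add, Scheme.Modules.Hom.app_smul, Scheme.Modules.Hom.app_smul]

lemma dd_add {U : X.Opens} (a b : Γ(X, U)) : dd Λ U (a + b) = dd Λ U a + dd Λ U b := by
  rw [dd, dd, dd, map_add, map_add]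

lemma dd_one (U : X.Opens) : dd Λ U 1 = 0 := by
  have h := dd_mul Λ (1 : Γ(X, U)) 1
  rw [one_mul, one_smul] at h
  exact left_eq_add.1 h

lemma dd_res {U V : X.Opens} (h : V ≤ U) (a : Γ(X, U)) : res Λ.L h (dd Λ U a) = dd Λ V (rres h a) := by
  rw [dd, ← app_res]
  exact congrArg (Λ.ι.app V) (d.d_map (X := op U) (homOfLE h).op a).symm

lemma dd_pow {U : X.Opens} (a : Γ(X, U)) (w : Γ(Λ.L, U)) (h : dd Λ U a = a • w) (n : ℕ) :
    dd Λ U (a ^ n) = ((n : Γ(X, U)) * a ^ n) • w := by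
  induction n with
  | zero => rw [pow_zero, dd_one, Nat.cast_zero, zero_mul, zero_smul]
  | succ n ih => rw [pow_succ, dd_mul, ih, h]; push_cast; module

lemma dd_pow' {U : X.Opens} (a : Γ(X, U)) (n : ℕ) :
    dd Λ U (a ^ (n + 1)) = (((n + 1 : ℕ) : Γ(X, U)) * a ^ n) • dd Λ U a := by
  induction n with
  | zero => simp
  | succ n ih => rw [pow_succ, dd_mul, ih]; push_cast; module

/-- `i·τ·da − N·a·dτ = a·τ·w`. -/
def Wt (N i : ℕ) (U : X.Opens) (a τ : Γ(X, U)) (w : Γ(Λ.L, U)) : Prop :=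
  ((i : Γ(X, U)) * τ) • dd Λ U a - ((N : Γ(X, U)) * a) • dd Λ U τ = (a * τ) • w

lemma Wt.mul {N i : ℕ} {U : X.Opens} {a τ a' τ' : Γ(X, U)} {w w' : Γ(Λ.L, U)} (h : Wt Λ N i U a τ w)
    (h' : Wt Λ N i U a' τ' w') : Wt Λ N i U (a * a') (τ * τ') (w + w') := by
  unfold Wt at *
  rw [dd_mul, dd_mul]
  have e : ((a * a') * (τ * τ')) • (w + w') = (a' * τ') • ((a * τ) • w) + (a * τ) • ((a' * τ') • w') := by module
  rw [e, ← h, ← h']
  module

/-- A smooth scheme over `S` has torsion-free differentials. -/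
theorem torsion_free [IsIntegral X] [Smooth f] (hd : OmegaSh.IsUniversal d)
    (hfs : FlatMod.IsFinLocFree Ω') {U : X.Opens} {b : Γ(X, U)} (hb : b ≠ 0)
    {x : Γ(Ω', U)} (hx : b • x = 0) : x = 0 := by
  choose V n e hxV he using fun y : U => LFFrame.exists_isFrame_of_isFinLocFree hfs y.1
  refine eq_zero_of_locally_eq_zero Ω' (U := fun y : U => V y ⊓ U) (fun _ => inf_le_right)
    (fun y hy => Opens.mem_iSup.2 ⟨⟨y, hy⟩, hxV ⟨y, hy⟩, hy⟩) x fun y => ?_
  haveI : Nonempty (V y ⊓ U : X.Opens) := ⟨⟨y.1, hxV y, y.2⟩⟩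
  obtain ⟨c, hc⟩ := (he y (V y ⊓ U) inf_le_left).2 (res Ω' inf_le_right x)
  have hsm : LFFrame.comb Ω' (e y) inf_le_left (rres (inf_le_right : V y ⊓ U ≤ U) b • c) =
      LFFrame.comb Ω' (e y) inf_le_left 0 := by
    have h1 := congrArg (res Ω' (inf_le_right : V y ⊓ U ≤ U)) hx
    rw [res_smul, ← hc, map_zero] at h1
    simp only [LFFrame.comb, Pi.smul_apply, smul_eq_mul, mul_smul, ← Finset.smul_sum, Pi.zero_apply, zero_smul,
      Finset.sum_const_zero] at h1 ⊢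
    exact h1
  have h2 := (he y (V y ⊓ U) inf_le_left).1 hsm
  have hc0 : c = 0 := funext fun l => (mul_eq_zero.1 (congrFun h2 l)).resolve_left
    (fun h0 => hb (CycCovEt.res_injective inf_le_right (h0.trans (map_zero _).symm)))
  rw [← hc, hc0]
  simp only [LFFrame.comb, Pi.zero_apply, zero_smul, Finset.sum_const_zero]

variable [IsIntegral X] {L : X.Modules} {N : ℕ} (s : Coh.structureModule X ⟶ CohB1.tensorPow L N)
  (D : Fin r → X.IdealSheafData) (α : Fin r → ℕ) (i : Fin N)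

/-- A frame adapted to the divisor. -/
structure GoodX (V : X.affineOpens) where
  e : Γ(L, V.1)
  he : Props.GenLocus.IsGen L V.1 e
  v : Γ(X, V.1)
  hv : IsUnit v
  t : Fin r → Γ(X, V.1)
  ht : ∀ j, t j ≠ 0
  hD : ∀ j, (D j).ideal V = Ideal.span {t j}
  hI : ∀ β : Fin r → ℕ, (CycCov.divIdeal D β).ideal V = Ideal.span {∏ j, t j ^ β j}
  hs : SecTwist.val s V.1 = (v * ∏ j, t j ^ α j) • pw L e N

variable {s D α}

theorem exists_goodX {k : Type u} [Field k] (f : X ⟶ Spec (CommRingCat.of k)) [Smooth f]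
    (hL : PicF.IsInvertible L) (hnX : Pi1.IsNormalScheme X) (hD : LogNCD.IsNCD D f)
    (hs : CycCov.IsZeroDiv (CohB1.tensorPow L N) s (CycCov.divIdeal D α)) {O : X.Opens} {x : X} (hx : x ∈ O) :
    ∃ V : X.affineOpens, x ∈ V.1 ∧ V.1 ≤ O ∧ Nonempty (GoodX s D α V) := by
  classical
  obtain ⟨U₁, e₁, hxU₁, he₁⟩ := exists_isGen hL x
  obtain ⟨U, hle, n, φ, emb, hxU, hUU', hφC, hφet, hemb, hthr, hoff⟩ :=
    LiftLib.NCDChart.exists_chart f D hD x (O ⊓ U₁) ⟨hx, hxU₁⟩ ⟨⊤, isAffineOpen_top _⟩ trivial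
  have hUU₁ : U.1 ≤ U₁ := hUU'.trans inf_le_right
  refine ⟨U, hxU, hUU'.trans inf_le_left, ?_⟩
  haveI : Nonempty U.1 := ⟨⟨x, hxU⟩⟩
  haveI : IsIntegrallyClosed Γ(X, U.1) := isIntegrallyClosed_of_normal hnX U.1
  let _κ : k →+* Γ(X, U.1) := ((Scheme.ΓSpecIso (CommRingCat.of k)).inv ≫ f.appLE ⊤ U.1 le_top).hom
  haveI : IsReduced Γ(Spec (CommRingCat.of k), ⊤) :=
    isReduced_of_injective (Scheme.ΓSpecIso (CommRingCat.of k)).commRingCatIsoToRingEquiv.toRingHom
      (RingEquiv.injective _)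
  haveI : IsDomain Γ(Spec (CommRingCat.of k), ⊤) :=
    ((Scheme.ΓSpecIso (CommRingCat.of k)).commRingCatIsoToRingEquiv).toMulEquiv.isDomain_iff.2 inferInstance
  letI := φ.toAlgebra
  haveI : Algebra.Etale (MvPolynomial (Fin n) Γ(Spec (CommRingCat.of k), ⊤)) Γ(X, U.1) :=
    RingHom.etale_algebraMap.1 hφet
  let t : Fin r → Γ(X, U.1) := fun j => if h : x ∈ (D j).support then φ (MvPolynomial.X (emb ⟨j, h⟩)) else 1
  have ht0 : ∀ j, t j ≠ 0 := fun j => by
    by_cases h : x ∈ (D j).support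
    · simp only [t, dif_pos h]
      intro h0
      have h1 := EtRamLib.Kummer.Basis.mem_map_of_mul_mem (R := Γ(X, U.1))
        (⊥ : Ideal (MvPolynomial (Fin n) Γ(Spec (CommRingCat.of k), ⊤))) (MvPolynomial.X (emb ⟨j, h⟩))
        (fun z hz => by simpa [MvPolynomial.X_ne_zero] using hz) 1
        (by rw [mul_one, Ideal.map_bot, Ideal.mem_bot]; exact h0)
      rw [Ideal.map_bot, Ideal.mem_bot] at h1
      exact one_ne_zero h1
    · simp only [t, dif_neg h]; exact one_ne_zero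
  have hDt : ∀ j, (D j).ideal U = Ideal.span {t j} := fun j => by
    by_cases h : x ∈ (D j).support
    · simp only [t, dif_pos h]; exact hthr ⟨j, h⟩
    · simp only [t, dif_neg h]; rw [hoff j h, Ideal.span_singleton_one]
  have hdiv : ∀ β : Fin r → ℕ, (CycCov.divIdeal D β).ideal U = Ideal.span {∏ j, t j ^ β j} := fun β => by
    rw [CycCov.divIdeal, prod_ideal, ← Ideal.prod_span_singleton]
    exact Finset.prod_congr rfl fun j _ => by
      rw [Scheme.IdealSheafData.ideal_pow, Pi.pow_apply, hDt, Ideal.span_singleton_pow]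
  let P : Γ(X, U.1) := ∏ j, t j ^ α j
  have hP0 : P ≠ 0 := Finset.prod_ne_zero_iff.2 fun j _ => pow_ne_zero _ (ht0 j)
  have hI : (CycCov.divIdeal D α).ideal U = Ideal.span {P} := hdiv α
  let e : Γ(L, U.1) := res L hUU₁ e₁
  have he : Props.GenLocus.IsGen L U.1 e := he₁.restrict hUU₁
  have hg : CycCov.IsGen _ U.1 (pw L e N) := isGen_prelude (isGen_pw he N)
  obtain ⟨c, hc⟩ := hg.2 (SecTwist.val s U.1)
  replace hc : SecTwist.val s U.1 = c • pw L e N := hc.symm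
  have hz := hs U
  rw [hI, hc] at hz
  have hc1 : P ∣ c := by
    have h1 : (c • pw L e N : (CohB1.tensorPow L N).val.obj (op U.1)) ∈ Submodule.span Γ(X, U.1) {c • pw L e N} :=
      Submodule.mem_span_singleton_self _
    rw [hz] at h1
    refine Submodule.smul_induction_on (p := fun m => ∀ d : Γ(X, U.1), m = d • pw L e N → P ∣ d) h1 ?_ ?_ c rfl
    · intro a ha m _ d hd
      obtain ⟨d', hd'⟩ := hg.2 m
      rw [← hd', smul_smul] at hd
      rw [← hg.1 hd]
      exact (Ideal.mem_span_singleton.1 ha).mul_right _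
    · intro m₁ m₂ h₁ h₂ d hd
      obtain ⟨d₁, hd₁⟩ := hg.2 m₁
      obtain ⟨d₂, hd₂⟩ := hg.2 m₂
      rw [← hd₁, ← hd₂, ← add_smul] at hd
      rw [← hg.1 hd]
      exact dvd_add (h₁ d₁ hd₁.symm) (h₂ d₂ hd₂.symm)
  obtain ⟨v, rfl⟩ := hc1
  have hv : IsUnit v := by
    have h1 : (P • pw L e N : (CohB1.tensorPow L N).val.obj (op U.1)) ∈
        Submodule.span Γ(X, U.1) {(P * v) • pw L e N} := by
      rw [hz]; exact Submodule.smul_mem_smul (Ideal.mem_span_singleton_self _) trivial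
    obtain ⟨a, ha⟩ := Submodule.mem_span_singleton.1 h1
    rw [smul_smul] at ha
    have h2 := hg.1 ha
    refine IsUnit.of_mul_eq_one_right a (mul_left_cancel₀ hP0 ?_)
    rw [mul_one, mul_left_comm]; exact h2
  rw [mul_comm] at hc
  exact ⟨⟨e, he, v, hv, t, ht0, hDt, hdiv, hc⟩⟩

variable {M : X.Modules} (φ : CohB1.tensorMod M (CycCov.intPart L D α N i) ≅ Coh.structureModule X)

/-- `y` is the derivative of `m`. -/
def Rel (s : Coh.structureModule X ⟶ CohB1.tensorPow L N) (U : X.Opens) (m : Γ(M, U))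
    (y : Γ(CohB1.tensorMod M Λ.L, U)) : Prop :=
  ∀ (V : X.affineOpens) (h : V.1 ≤ U) (e : Γ(L, V.1)) (_ : Props.GenLocus.IsGen L V.1 e)
    (τ : Γ(ClSub.idealMod (CycCov.floorIdeal D α N i), V.1)) (a : Γ(X, V.1))
    (_ : SecTwist.val s V.1 = a • pw L e N) (m₁ : Γ(M, V.1)),
    ((N : Γ(X, V.1)) * a * idealSect _ V.1 τ * pairF D α i φ (tmul (pw L e (i : ℕ)) τ) m₁) • res _ h y =
      tmul m₁ (((N : Γ(X, V.1)) * a * idealSect _ V.1 τ) • dd Λ V.1 (pairF D α i φ (tmul (pw L e (i : ℕ)) τ) (res M h m)) +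
        (((i : ℕ) : Γ(X, V.1)) * idealSect _ V.1 τ * pairF D α i φ (tmul (pw L e (i : ℕ)) τ) (res M h m)) • dd Λ V.1 a -
        ((N : Γ(X, V.1)) * a * pairF D α i φ (tmul (pw L e (i : ℕ)) τ) (res M h m)) • dd Λ V.1 (idealSect _ V.1 τ))

variable {Λ}

lemma Rel.restrict {U U' : X.Opens} (hU : U' ≤ U) {m : Γ(M, U)} {y : Γ(CohB1.tensorMod M Λ.L, U)}
    (h : Rel Λ i φ s U m y) : Rel Λ i φ s U' (res M hU m) (res _ hU y) := fun V hV e he τ a ha m₁ => by
  rw [res_res, res_res]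
  exact h V (hV.trans hU) e he τ a ha m₁

/-- Data on a good open. -/
structure Frame (V : X.affineOpens) extends GoodX s D α V where
  σ : Γ(ClSub.idealMod (CycCov.floorIdeal D α N i), V.1)
  hσ : Props.GenLocus.IsGen _ V.1 σ
  hσ' : idealSect _ V.1 σ = ∏ j, t j ^ ((i : ℕ) * α j / N)
  m₀ : Γ(M, V.1)
  hm₀ : pairF D α i φ (tmul (pw L e (i : ℕ)) σ) m₀ = 1
  ω : Γ(Λ.L, V.1)
  hω : Wt Λ N i V.1 (v * ∏ j, t j ^ α j) (idealSect _ V.1 σ) ((N : Γ(X, V.1)) • ω)
  hres : ∀ j, (Λ.res j).app V.1 ((N : Γ(X, V.1)) • ω) =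
    (CycCov.resNum α N i j : Γ(X, V.1)) • (LogNCD.oneOn (D' j) V.1 : Γ(ClSub.quotMod (D' j), V.1))

variable {i φ}

lemma Frame.eq_smul {V : X.affineOpens} (F : Frame i φ (Λ := Λ) (s := s) V) {W : X.Opens} (h : W ≤ V.1) (m : Γ(M, W)) :
    m = pairF D α i φ (res _ h (tmul (pw L F.e (i : ℕ)) F.σ)) m • res M h F.m₀ := by
  have hg : Props.GenLocus.IsGen (CycCov.intPart L D α N i) V.1 (tmul (pw L F.e (i : ℕ)) F.σ) :=
    isGen_tmul (isGen_pw F.he _) F.hσ
  refine ((ConcreteCategory.bijective_of_isIso (φ.hom.app W)).comp (AmpleLib.tmul_gen_bijective hg M h)).1 ?_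
  show pairF D α i φ _ m = pairF D α i φ _ (pairF D α i φ _ m • res M h F.m₀)
  rw [pairF_smul_right, ← pairF_res, F.hm₀, map_one, mul_one]

lemma Frame.isGen {V : X.affineOpens} (F : Frame i φ (Λ := Λ) (s := s) V) :
    Props.GenLocus.IsGen M V.1 F.m₀ := fun W h => by
  have hg : Props.GenLocus.IsGen (CycCov.intPart L D α N i) V.1 (tmul (pw L F.e (i : ℕ)) F.σ) :=
    isGen_tmul (isGen_pw F.he _) F.hσ
  refine ⟨fun a b hab => ?_, fun m => ⟨_, (F.eq_smul h m).symm⟩⟩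
  have h1 := congrArg (fun m => pairF D α i φ (res _ h (tmul (pw L F.e (i : ℕ)) F.σ)) m) hab
  simp only [sm, pairF_smul_right, ← pairF_res, F.hm₀, map_one, mul_one] at h1
  exact h1

theorem rel_iff (hd : OmegaSh.IsUniversal d) [Smooth f] (hfree : FlatMod.IsFinLocFree Ω')
    (hτne : ∀ (V : X.affineOpens) (G : GoodX s D α V) (g : Fin r → Γ(X, V.1)), (∀ j, (D' j).ideal V = Ideal.span {g j}) →
      ∀ j, g j ≠ 0)
    (hD' : ∀ (V : X.affineOpens) (G : GoodX s D α V), ∃ g : Fin r → Γ(X, V.1), ∀ j, (D' j).ideal V = Ideal.span {g j})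
    {V : X.affineOpens} [Nonempty V.1] (hN : (N : Γ(X, V.1)) ≠ 0) (F : Frame i φ (Λ := Λ) (s := s) V) (m : Γ(M, V.1))
    (y : Γ(CohB1.tensorMod M Λ.L, V.1)) :
    Rel Λ i φ s V.1 m y ↔ y = tmul F.m₀
      (dd Λ V.1 (pairF D α i φ (tmul (pw L F.e (i : ℕ)) F.σ) m) +
        pairF D α i φ (tmul (pw L F.e (i : ℕ)) F.σ) m • F.ω) := by
  let a := F.v * ∏ j, F.t j ^ α j
  let τ := idealSect _ V.1 F.σ
  let p := pairF D α i φ (tmul (pw L F.e (i : ℕ)) F.σ) m
  have hid : ((N : Γ(X, V.1)) * a * τ) • dd Λ V.1 p + (((i : ℕ) : Γ(X, V.1)) * τ * p) • dd Λ V.1 a -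
      ((N : Γ(X, V.1)) * a * p) • dd Λ V.1 τ = ((N : Γ(X, V.1)) * a * τ) • (dd Λ V.1 p + p • F.ω) := by
    have h1 := congrArg (p • ·) F.hω
    simp only [Wt, smul_sub] at h1
    calc _ = ((N : Γ(X, V.1)) * a * τ) • dd Λ V.1 p + (p • (((i : ℕ) : Γ(X, V.1)) * τ) • dd Λ V.1 a -
          p • ((N : Γ(X, V.1)) * a) • dd Λ V.1 τ) := by module
      _ = _ := by rw [h1]; module
  constructor
  · intro h
    have h1 := h V le_rfl F.e F.he F.σ a F.hs F.m₀
    rw [res_self, res_self, F.hm₀, mul_one] at h1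
    rw [hid, tmul_smul_right] at h1
    have hbij := tmul_left_bijective F.isGen Λ.L (le_refl V.1)
    obtain ⟨z, hz⟩ := hbij.2 y
    simp only [res_self] at hz hbij
    rw [← hz] at h1 ⊢
    simp only [← tmul_smul_right] at h1
    refine congrArg _ (sub_eq_zero.1 ?_)
    have h2 := hbij.1 h1
    have hne : (N : Γ(X, V.1)) * a * τ ≠ 0 := mul_ne_zero (mul_ne_zero hN (mul_ne_zero F.hv.ne_zero
      (Finset.prod_ne_zero_iff.2 fun j _ => pow_ne_zero _ (F.ht j))))
      (by show idealSect _ V.1 F.σ ≠ 0; rw [F.hσ']; exact Finset.prod_ne_zero_iff.2 fun j _ => pow_ne_zero _ (F.ht j))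
    have h3 : ((N : Γ(X, V.1)) * a * τ) • (z - (dd Λ V.1 p + p • F.ω)) = 0 := by
      rw [smul_sub]; exact sub_eq_zero.2 h2
    -- torsion-freeness of the logarithmic forms
    obtain ⟨g, hg⟩ := hD' V F.toGoodX
    obtain ⟨htor, dl, hdl, hspan, -, -⟩ := Λ.rule V g hg
    set x := z - (dd Λ V.1 p + p • F.ω) with hx
    have hmem : ∀ x : Γ(Λ.L, V.1), ∃ w : Γ(Ω', V.1), (∏ l, g l) • x = Λ.ι.app V.1 w := fun x => by
      have hx : x ∈ Submodule.span Γ(X, V.1) (Set.range ((Λ.ι.val.app (op V.1)).hom) ∪ Set.range dl) := by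
        rw [hspan]; trivial
      induction hx using Submodule.span_induction with
      | mem x hx =>
        rcases hx with ⟨w, rfl⟩ | ⟨l, rfl⟩
        · exact ⟨(∏ l, g l) • w, (Scheme.Modules.Hom.app_smul _ _ _).symm⟩
        · refine ⟨(∏ l' ∈ Finset.univ.erase l, g l') • d.app V.1 (g l), ?_⟩
          rw [← Finset.mul_prod_erase _ g (Finset.mem_univ l), mul_comm, mul_smul, hdl l]
          exact (Scheme.Modules.Hom.app_smul _ _ _).symm
      | zero => exact ⟨0, by rw [smul_zero, map_zero]⟩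
      | add x y _ _ hx hy =>
        obtain ⟨w, hw⟩ := hx; obtain ⟨w', hw'⟩ := hy
        exact ⟨w + w', by rw [smul_add, hw, hw', map_add]⟩
      | smul c x _ hx =>
        obtain ⟨w, hw⟩ := hx
        exact ⟨c • w, by rw [smul_comm, hw]; exact (Scheme.Modules.Hom.app_smul _ _ _).symm⟩
    obtain ⟨w, hw⟩ := hmem x
    haveI := Λ.mono
    have hw0 : w = 0 := torsion_free hd hfree hne ((QCoh.app_injective_of_mono Λ.ι V.1) (by
      rw [Scheme.Modules.Hom.app_smul, ← hw, smul_comm, h3, smul_zero, map_zero]))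
    rw [hw0, map_zero] at hw
    exact htor x hw
  · rintro rfl V' h e' he' τ' a' ha' m₁
    obtain ⟨c, hc, -⟩ := F.hσ.exists_eq h τ'
    obtain ⟨b, hb, -⟩ := he'.exists_eq le_rfl (res L h F.e)
    obtain ⟨b', hb', -⟩ := (F.he.restrict h).exists_eq le_rfl e'
    rw [res_self] at hb hb'
    have hbb : b' * b = 1 := (isGen_prelude he').1 (by
      show (b' * b) • e' = (1 : Γ(X, V'.1)) • e'
      rw [one_smul, mul_smul, ← hb, ← hb'])
    have ha1 : a' = rres h a * b ^ N := by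
      refine (isGen_prelude (isGen_pw he' N)).1 ?_
      show a' • pw L e' N = _ • pw L e' N
      rw [← ha', mul_smul, ← pw_smul, ← hb, ← res_pw, ← res_smul, ← F.hs]
      exact (sec_res s h).symm
    have hτ1 : idealSect _ V'.1 τ' = c * rres h τ := by
      rw [hc, Omega.Stalks.idealSect_smul]
      erw [Omega.Stalks.idealSect_map]
    let g := res _ h (tmul (pw L F.e (i : ℕ)) F.σ)
    have hg' : tmul (pw L e' (i : ℕ)) τ' = (c * b' ^ (i : ℕ)) • g := by
      rw [show g = tmul (pw L (res L h F.e) (i : ℕ)) (res _ h F.σ) by rw [← res_pw]; exact res_tmul h _ _, hb', pw_smul,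
        hc, tmul_smul_right, tmul_smul_left, smul_smul]
    let q := pairF D α i φ g (res M h m)
    let q₁ := pairF D α i φ g m₁
    have hp : pairF D α i φ (tmul (pw L e' (i : ℕ)) τ') (res M h m) = c * b' ^ (i : ℕ) * q := by
      rw [hg', pairF_smul_left]
    have hp₁ : pairF D α i φ (tmul (pw L e' (i : ℕ)) τ') m₁ = c * b' ^ (i : ℕ) * q₁ := by
      rw [hg', pairF_smul_left]
    have hq : rres h p = q := pairF_res D α i φ h _ _
    let β := b' • dd Λ V'.1 b
    have hβ : dd Λ V'.1 b = b • β := by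
      rw [show b • β = (b' * b) • dd Λ V'.1 b by rw [smul_smul, mul_comm b b'], hbb, one_smul]
    have hβ' : dd Λ V'.1 b' = b' • (-β) := by
      have h1 : b' • dd Λ V'.1 b + b • dd Λ V'.1 b' = 0 := by rw [← dd_mul, hbb, dd_one]
      calc dd Λ V'.1 b' = (b' * b) • dd Λ V'.1 b' := by rw [hbb, one_smul]
        _ = b' • (b • dd Λ V'.1 b') := mul_smul _ _ _
        _ = _ := by rw [eq_neg_of_add_eq_zero_right h1, smul_neg]
    have hw : (((i : ℕ) : Γ(X, V'.1)) * rres h τ) • dd Λ V'.1 (rres h a) -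
        ((N : Γ(X, V'.1)) * rres h a) • dd Λ V'.1 (rres h τ) =
        (rres h a * rres h τ) • ((N : Γ(X, V'.1)) • res Λ.L h F.ω) := by
      have h1 := congrArg (res Λ.L h) (show (((i : ℕ) : Γ(X, V.1)) * τ) • dd Λ V.1 a -
        ((N : Γ(X, V.1)) * a) • dd Λ V.1 τ = (a * τ) • ((N : Γ(X, V.1)) • F.ω) from F.hω)
      simp only [map_sub, res_smul, dd_res, map_mul, map_natCast] at h1
      exact h1
    have hmain : ((N : Γ(X, V'.1)) * a' * idealSect _ V'.1 τ') • dd Λ V'.1 (c * b' ^ (i : ℕ) * q) +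
          (((i : ℕ) : Γ(X, V'.1)) * idealSect _ V'.1 τ' * (c * b' ^ (i : ℕ) * q)) • dd Λ V'.1 a' -
          ((N : Γ(X, V'.1)) * a' * (c * b' ^ (i : ℕ) * q)) • dd Λ V'.1 (idealSect _ V'.1 τ') =
        ((N : Γ(X, V'.1)) * a' * idealSect _ V'.1 τ' * (c * b' ^ (i : ℕ))) • (dd Λ V'.1 q + q • res Λ.L h F.ω) := by
      rw [ha1, hτ1]
      simp only [dd_mul, dd_pow Λ b β hβ, dd_pow Λ b' (-β) hβ']
      have e1 : ((N : Γ(X, V'.1)) * (rres h a * b ^ N) * (c * rres h τ) * (c * b' ^ (i : ℕ))) • (q • res Λ.L h F.ω) =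
          (q * c * b' ^ (i : ℕ) * b ^ N * c) • ((rres h a * rres h τ) • ((N : Γ(X, V'.1)) • res Λ.L h F.ω)) := by module
      rw [smul_add _ (dd Λ V'.1 q), e1, ← hw]
      module
    rw [hp, hp₁, hmain, tmul_smul_right]
    erw [res_tmul]
    rw [map_add, dd_res, res_smul, hq]
    conv_rhs => rw [F.eq_smul h m₁]
    rw [tmul_smul_left, smul_smul]
    congr 1
    show _ = _ * (c * b' ^ (i : ℕ)) * q₁
    ring

end Groth.Agent.CycCovConn
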